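import Cfsg.Agent.Lib.SporRecognition.Cert.He2058.Perm
import Cfsg.Agent.Lib.SporRecognition.Cert.He2058.Steps1
import Cfsg.Agent.Lib.SporRecognition.Cert.He2058.Steps2

/-! Generated coset-enumeration certificate: He over <a, c, d, e, f, (a*b)^2, (b*c*d*e)^7>, 2058 cosets. -/

set_option autoImplicit false
set_option maxRecDepth 20000
set_option linter.all false
set_option Elab.async false

namespace CfsgLib.SporRecognition.Cert.He2058

open CfsgLib.SporRecognition.CosetCert

theorem defs_ok_c0 : allPow 7252 (defStep inv fact) 12 0 = true := by decide +kernel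
theorem defs_ok_c1 : allPow 7252 (defStep inv fact) 12 4096 = true := by decide +kernel
theorem defs_ok : allBelow 13 7252 (defStep inv fact) = true :=
  allBelow_of_upto (hi := 8192)
    (Upto.trans (mid := 4096) ((Upto.of_pow defs_ok_c0 (Nat.le_refl _)) : Upto _ _ 0 (0 + 2 ^ 12))
    ((Upto.of_pow defs_ok_c1 (Nat.le_refl _)) : Upto _ _ 4096 (4096 + 2 ^ 12)))
    (by decide) (by decide)

theorem final1_c0 : allPow 2058 (finalStep fact node item1 T1 22009 1 2058) 10 0 = true := by decide +kernel
theorem final1_c1 : allPow 2058 (finalStep fact node item1 T1 22009 1 2058) 10 1024 = true := by decide +kernel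
theorem final1_c2 : allPow 2058 (finalStep fact node item1 T1 22009 1 2058) 10 2048 = true := by decide +kernel
theorem final1 : allBelow 12 2058 (finalStep fact node item1 T1 22009 1 2058) = true :=
  allBelow_of_upto (hi := 3072)
    (Upto.trans (mid := 1024) ((Upto.of_pow final1_c0 (Nat.le_refl _)) : Upto _ _ 0 (0 + 2 ^ 10))
    (Upto.trans (mid := 2048) ((Upto.of_pow final1_c1 (Nat.le_refl _)) : Upto _ _ 1024 (1024 + 2 ^ 10))
    ((Upto.of_pow final1_c2 (Nat.le_refl _)) : Upto _ _ 2048 (2048 + 2 ^ 10))))
    (by decide) (by decide)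

theorem final2_c0 : allPow 2058 (finalStep fact node item2 T2 22009 2 2058) 10 0 = true := by decide +kernel
theorem final2_c1 : allPow 2058 (finalStep fact node item2 T2 22009 2 2058) 10 1024 = true := by decide +kernel
theorem final2_c2 : allPow 2058 (finalStep fact node item2 T2 22009 2 2058) 10 2048 = true := by decide +kernel
theorem final2 : allBelow 12 2058 (finalStep fact node item2 T2 22009 2 2058) = true :=
  allBelow_of_upto (hi := 3072)
    (Upto.trans (mid := 1024) ((Upto.of_pow final2_c0 (Nat.le_refl _)) : Upto _ _ 0 (0 + 2 ^ 10))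
    (Upto.trans (mid := 2048) ((Upto.of_pow final2_c1 (Nat.le_refl _)) : Upto _ _ 1024 (1024 + 2 ^ 10))
    ((Upto.of_pow final2_c2 (Nat.le_refl _)) : Upto _ _ 2048 (2048 + 2 ^ 10))))
    (by decide) (by decide)

theorem final3_c0 : allPow 2058 (finalStep fact node item3 T3 22009 3 2058) 10 0 = true := by decide +kernel
theorem final3_c1 : allPow 2058 (finalStep fact node item3 T3 22009 3 2058) 10 1024 = true := by decide +kernel
theorem final3_c2 : allPow 2058 (finalStep fact node item3 T3 22009 3 2058) 10 2048 = true := by decide +kernel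
theorem final3 : allBelow 12 2058 (finalStep fact node item3 T3 22009 3 2058) = true :=
  allBelow_of_upto (hi := 3072)
    (Upto.trans (mid := 1024) ((Upto.of_pow final3_c0 (Nat.le_refl _)) : Upto _ _ 0 (0 + 2 ^ 10))
    (Upto.trans (mid := 2048) ((Upto.of_pow final3_c1 (Nat.le_refl _)) : Upto _ _ 1024 (1024 + 2 ^ 10))
    ((Upto.of_pow final3_c2 (Nat.le_refl _)) : Upto _ _ 2048 (2048 + 2 ^ 10))))
    (by decide) (by decide)

theorem final4_c0 : allPow 2058 (finalStep fact node item4 T4 22009 4 2058) 10 0 = true := by decide +kernel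
theorem final4_c1 : allPow 2058 (finalStep fact node item4 T4 22009 4 2058) 10 1024 = true := by decide +kernel
theorem final4_c2 : allPow 2058 (finalStep fact node item4 T4 22009 4 2058) 10 2048 = true := by decide +kernel
theorem final4 : allBelow 12 2058 (finalStep fact node item4 T4 22009 4 2058) = true :=
  allBelow_of_upto (hi := 3072)
    (Upto.trans (mid := 1024) ((Upto.of_pow final4_c0 (Nat.le_refl _)) : Upto _ _ 0 (0 + 2 ^ 10))
    (Upto.trans (mid := 2048) ((Upto.of_pow final4_c1 (Nat.le_refl _)) : Upto _ _ 1024 (1024 + 2 ^ 10))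
    ((Upto.of_pow final4_c2 (Nat.le_refl _)) : Upto _ _ 2048 (2048 + 2 ^ 10))))
    (by decide) (by decide)

theorem final5_c0 : allPow 2058 (finalStep fact node item5 T5 22009 5 2058) 10 0 = true := by decide +kernel
theorem final5_c1 : allPow 2058 (finalStep fact node item5 T5 22009 5 2058) 10 1024 = true := by decide +kernel
theorem final5_c2 : allPow 2058 (finalStep fact node item5 T5 22009 5 2058) 10 2048 = true := by decide +kernel
theorem final5 : allBelow 12 2058 (finalStep fact node item5 T5 22009 5 2058) = true :=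
  allBelow_of_upto (hi := 3072)
    (Upto.trans (mid := 1024) ((Upto.of_pow final5_c0 (Nat.le_refl _)) : Upto _ _ 0 (0 + 2 ^ 10))
    (Upto.trans (mid := 2048) ((Upto.of_pow final5_c1 (Nat.le_refl _)) : Upto _ _ 1024 (1024 + 2 ^ 10))
    ((Upto.of_pow final5_c2 (Nat.le_refl _)) : Upto _ _ 2048 (2048 + 2 ^ 10))))
    (by decide) (by decide)

theorem final6_c0 : allPow 2058 (finalStep fact node item6 T6 22009 6 2058) 10 0 = true := by decide +kernel
theorem final6_c1 : allPow 2058 (finalStep fact node item6 T6 22009 6 2058) 10 1024 = true := by decide +kernel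
theorem final6_c2 : allPow 2058 (finalStep fact node item6 T6 22009 6 2058) 10 2048 = true := by decide +kernel
theorem final6 : allBelow 12 2058 (finalStep fact node item6 T6 22009 6 2058) = true :=
  allBelow_of_upto (hi := 3072)
    (Upto.trans (mid := 1024) ((Upto.of_pow final6_c0 (Nat.le_refl _)) : Upto _ _ 0 (0 + 2 ^ 10))
    (Upto.trans (mid := 2048) ((Upto.of_pow final6_c1 (Nat.le_refl _)) : Upto _ _ 1024 (1024 + 2 ^ 10))
    ((Upto.of_pow final6_c2 (Nat.le_refl _)) : Upto _ _ 2048 (2048 + 2 ^ 10))))
    (by decide) (by decide)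

theorem final7_c0 : allPow 2058 (finalStep fact node item7 T7 22009 7 2058) 10 0 = true := by decide +kernel
theorem final7_c1 : allPow 2058 (finalStep fact node item7 T7 22009 7 2058) 10 1024 = true := by decide +kernel
theorem final7_c2 : allPow 2058 (finalStep fact node item7 T7 22009 7 2058) 10 2048 = true := by decide +kernel
theorem final7 : allBelow 12 2058 (finalStep fact node item7 T7 22009 7 2058) = true :=
  allBelow_of_upto (hi := 3072)
    (Upto.trans (mid := 1024) ((Upto.of_pow final7_c0 (Nat.le_refl _)) : Upto _ _ 0 (0 + 2 ^ 10))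
    (Upto.trans (mid := 2048) ((Upto.of_pow final7_c1 (Nat.le_refl _)) : Upto _ _ 1024 (1024 + 2 ^ 10))
    ((Upto.of_pow final7_c2 (Nat.le_refl _)) : Upto _ _ 2048 (2048 + 2 ^ 10))))
    (by decide) (by decide)

instance neZero : NeZero (2058 : Nat) := ⟨by decide⟩

theorem certified : Certified (Cfsg.Spor.coxRelators Cfsg.Spor.He.edges ∪ {r | r ∈ Cfsg.Spor.He.extra}) subW 2058 tabs :=
  certified_of_checks (edges := Cfsg.Spor.He.edges) (pairs := pairs) (extra := Cfsg.Spor.He.extra) (extraW := extraW)
    (by decide +kernel) rfl invols relW (by decide +kernel) (by decide +kernel) subW lets data 2058 rfl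
    rtriv rroot 32 39 rfl rfl (by decide +kernel) (by decide +kernel)
    (fun k hk => allBelow_spec defs_ok k hk) (covers1.trans (covers2)) (by decide +kernel)
    (by
      intro i hi u hu
      have hi' : i < 7 := hi
      interval_cases i
      · exact allBelow_spec final1 u hu
      · exact allBelow_spec final2 u hu
      · exact allBelow_spec final3 u hu
      · exact allBelow_spec final4 u hu
      · exact allBelow_spec final5 u hu
      · exact allBelow_spec final6 u hu
      · exact allBelow_spec final7 u hu
      ) tabs tablesOK relW_ok subW_fix trans_ok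
    (by
      intro a
      cases a
      · exact ⟨0, by decide, rfl, rfl⟩
      · exact ⟨1, by decide, rfl, rfl⟩
      · exact ⟨2, by decide, rfl, rfl⟩
      · exact ⟨3, by decide, rfl, rfl⟩
      · exact ⟨4, by decide, rfl, rfl⟩
      · exact ⟨5, by decide, rfl, rfl⟩
      · exact ⟨6, by decide, rfl, rfl⟩
      )

end CfsgLib.SporRecognition.Cert.He2058
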