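import Cfsg.Agent.Lib.SporRecognition.Cert.He2058.Tables

/-! Generated coset-enumeration certificate: He over <a, c, d, e, f, (a*b)^2, (b*c*d*e)^7>, 2058 cosets. -/

set_option autoImplicit false
set_option maxRecDepth 20000
set_option linter.all false
set_option Elab.async false

namespace CfsgLib.SporRecognition.Cert.He2058

open CfsgLib.SporRecognition.CosetCert

theorem inv_T1_T1 : allBelow 12 2058 (invStep T1 T1 2058) = true := by decide +kernel

theorem inv_T2_T2 : allBelow 12 2058 (invStep T2 T2 2058) = true := by decide +kernel

theorem inv_T3_T3 : allBelow 12 2058 (invStep T3 T3 2058) = true := by decide +kernel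

theorem inv_T4_T4 : allBelow 12 2058 (invStep T4 T4 2058) = true := by decide +kernel

theorem inv_T5_T5 : allBelow 12 2058 (invStep T5 T5 2058) = true := by decide +kernel

theorem inv_T6_T6 : allBelow 12 2058 (invStep T6 T6 2058) = true := by decide +kernel

theorem inv_T7_T7 : allBelow 12 2058 (invStep T7 T7 2058) = true := by decide +kernel

theorem tablesOK : TablesOK tabs 2058 := by
  refine tablesOK_of_checks (d := 12) fun a b => ?_
  cases a <;> cases b
  · exact inv_T1_T1
  · exact inv_T1_T1
  · exact inv_T2_T2
  · exact inv_T2_T2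
  · exact inv_T3_T3
  · exact inv_T3_T3
  · exact inv_T4_T4
  · exact inv_T4_T4
  · exact inv_T5_T5
  · exact inv_T5_T5
  · exact inv_T6_T6
  · exact inv_T6_T6
  · exact inv_T7_T7
  · exact inv_T7_T7

end CfsgLib.SporRecognition.Cert.He2058
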