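import Cfsg.Agent.Lib.SporRecognition.Cert.He2058.PermBase

/-! Generated coset-enumeration certificate: He over <a, c, d, e, f, (a*b)^2, (b*c*d*e)^7>, 2058 cosets. -/

set_option autoImplicit false
set_option maxRecDepth 20000
set_option linter.all false
set_option Elab.async false

namespace CfsgLib.SporRecognition.Cert.He2058

open CfsgLib.SporRecognition.CosetCert

theorem relChk0 : allBelow 12 2058 (fixStep [T1, T1]) = true := by decide +kernel

theorem rel0 : ∀ u, u < 2058 → trace (wordTabs tabs [(.a, true), (.a, true)]) u = u :=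
  trace_of_fixStep (ts := [T1, T1]) relChk0

theorem relChk1_c0 : allPow 2058 (fixStep [T2, T1, T2, T1, T2, T1, T2, T1]) 10 0 = true := by decide +kernel
theorem relChk1_c1 : allPow 2058 (fixStep [T2, T1, T2, T1, T2, T1, T2, T1]) 10 1024 = true := by decide +kernel
theorem relChk1_c2 : allPow 2058 (fixStep [T2, T1, T2, T1, T2, T1, T2, T1]) 10 2048 = true := by decide +kernel
theorem relChk1 : allBelow 12 2058 (fixStep [T2, T1, T2, T1, T2, T1, T2, T1]) = true :=
  allBelow_of_upto (hi := 3072)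
    (Upto.trans (mid := 1024) ((Upto.of_pow relChk1_c0 (Nat.le_refl _)) : Upto _ _ 0 (0 + 2 ^ 10))
    (Upto.trans (mid := 2048) ((Upto.of_pow relChk1_c1 (Nat.le_refl _)) : Upto _ _ 1024 (1024 + 2 ^ 10))
    ((Upto.of_pow relChk1_c2 (Nat.le_refl _)) : Upto _ _ 2048 (2048 + 2 ^ 10))))
    (by decide) (by decide)

theorem rel1 : ∀ u, u < 2058 → trace (wordTabs tabs [(.a, true), (.b, true), (.a, true), (.b, true), (.a, true), (.b, true), (.a, true), (.b, true)]) u = u :=
  trace_of_fixStep (ts := [T2, T1, T2, T1, T2, T1, T2, T1]) relChk1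

theorem relChk2_c0 : allPow 2058 (fixStep [T3, T1, T3, T1]) 11 0 = true := by decide +kernel
theorem relChk2_c1 : allPow 2058 (fixStep [T3, T1, T3, T1]) 11 2048 = true := by decide +kernel
theorem relChk2 : allBelow 12 2058 (fixStep [T3, T1, T3, T1]) = true :=
  allBelow_of_upto (hi := 4096)
    (Upto.trans (mid := 2048) ((Upto.of_pow relChk2_c0 (Nat.le_refl _)) : Upto _ _ 0 (0 + 2 ^ 11))
    ((Upto.of_pow relChk2_c1 (Nat.le_refl _)) : Upto _ _ 2048 (2048 + 2 ^ 11)))
    (by decide) (by decide)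

theorem rel2 : ∀ u, u < 2058 → trace (wordTabs tabs [(.a, true), (.c, true), (.a, true), (.c, true)]) u = u :=
  trace_of_fixStep (ts := [T3, T1, T3, T1]) relChk2

theorem relChk3_c0 : allPow 2058 (fixStep [T4, T1, T4, T1]) 11 0 = true := by decide +kernel
theorem relChk3_c1 : allPow 2058 (fixStep [T4, T1, T4, T1]) 11 2048 = true := by decide +kernel
theorem relChk3 : allBelow 12 2058 (fixStep [T4, T1, T4, T1]) = true :=
  allBelow_of_upto (hi := 4096)
    (Upto.trans (mid := 2048) ((Upto.of_pow relChk3_c0 (Nat.le_refl _)) : Upto _ _ 0 (0 + 2 ^ 11))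
    ((Upto.of_pow relChk3_c1 (Nat.le_refl _)) : Upto _ _ 2048 (2048 + 2 ^ 11)))
    (by decide) (by decide)

theorem rel3 : ∀ u, u < 2058 → trace (wordTabs tabs [(.a, true), (.d, true), (.a, true), (.d, true)]) u = u :=
  trace_of_fixStep (ts := [T4, T1, T4, T1]) relChk3

theorem relChk4_c0 : allPow 2058 (fixStep [T5, T1, T5, T1]) 11 0 = true := by decide +kernel
theorem relChk4_c1 : allPow 2058 (fixStep [T5, T1, T5, T1]) 11 2048 = true := by decide +kernel
theorem relChk4 : allBelow 12 2058 (fixStep [T5, T1, T5, T1]) = true :=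
  allBelow_of_upto (hi := 4096)
    (Upto.trans (mid := 2048) ((Upto.of_pow relChk4_c0 (Nat.le_refl _)) : Upto _ _ 0 (0 + 2 ^ 11))
    ((Upto.of_pow relChk4_c1 (Nat.le_refl _)) : Upto _ _ 2048 (2048 + 2 ^ 11)))
    (by decide) (by decide)

theorem rel4 : ∀ u, u < 2058 → trace (wordTabs tabs [(.a, true), (.e, true), (.a, true), (.e, true)]) u = u :=
  trace_of_fixStep (ts := [T5, T1, T5, T1]) relChk4

theorem relChk5_c0 : allPow 2058 (fixStep [T6, T1, T6, T1]) 11 0 = true := by decide +kernel
theorem relChk5_c1 : allPow 2058 (fixStep [T6, T1, T6, T1]) 11 2048 = true := by decide +kernel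
theorem relChk5 : allBelow 12 2058 (fixStep [T6, T1, T6, T1]) = true :=
  allBelow_of_upto (hi := 4096)
    (Upto.trans (mid := 2048) ((Upto.of_pow relChk5_c0 (Nat.le_refl _)) : Upto _ _ 0 (0 + 2 ^ 11))
    ((Upto.of_pow relChk5_c1 (Nat.le_refl _)) : Upto _ _ 2048 (2048 + 2 ^ 11)))
    (by decide) (by decide)

theorem rel5 : ∀ u, u < 2058 → trace (wordTabs tabs [(.a, true), (.f, true), (.a, true), (.f, true)]) u = u :=
  trace_of_fixStep (ts := [T6, T1, T6, T1]) relChk5

theorem relChk6_c0 : allPow 2058 (fixStep [T7, T1, T7, T1]) 11 0 = true := by decide +kernel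
theorem relChk6_c1 : allPow 2058 (fixStep [T7, T1, T7, T1]) 11 2048 = true := by decide +kernel
theorem relChk6 : allBelow 12 2058 (fixStep [T7, T1, T7, T1]) = true :=
  allBelow_of_upto (hi := 4096)
    (Upto.trans (mid := 2048) ((Upto.of_pow relChk6_c0 (Nat.le_refl _)) : Upto _ _ 0 (0 + 2 ^ 11))
    ((Upto.of_pow relChk6_c1 (Nat.le_refl _)) : Upto _ _ 2048 (2048 + 2 ^ 11)))
    (by decide) (by decide)

theorem rel6 : ∀ u, u < 2058 → trace (wordTabs tabs [(.a, true), (.g, true), (.a, true), (.g, true)]) u = u :=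
  trace_of_fixStep (ts := [T7, T1, T7, T1]) relChk6

theorem relChk7 : allBelow 12 2058 (fixStep [T2, T2]) = true := by decide +kernel

theorem rel7 : ∀ u, u < 2058 → trace (wordTabs tabs [(.b, true), (.b, true)]) u = u :=
  trace_of_fixStep (ts := [T2, T2]) relChk7

theorem relChk8_c0 : allPow 2058 (fixStep [T3, T2, T3, T2, T3, T2]) 11 0 = true := by decide +kernel
theorem relChk8_c1 : allPow 2058 (fixStep [T3, T2, T3, T2, T3, T2]) 11 2048 = true := by decide +kernel
theorem relChk8 : allBelow 12 2058 (fixStep [T3, T2, T3, T2, T3, T2]) = true :=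
  allBelow_of_upto (hi := 4096)
    (Upto.trans (mid := 2048) ((Upto.of_pow relChk8_c0 (Nat.le_refl _)) : Upto _ _ 0 (0 + 2 ^ 11))
    ((Upto.of_pow relChk8_c1 (Nat.le_refl _)) : Upto _ _ 2048 (2048 + 2 ^ 11)))
    (by decide) (by decide)

theorem rel8 : ∀ u, u < 2058 → trace (wordTabs tabs [(.b, true), (.c, true), (.b, true), (.c, true), (.b, true), (.c, true)]) u = u :=
  trace_of_fixStep (ts := [T3, T2, T3, T2, T3, T2]) relChk8

theorem relChk9_c0 : allPow 2058 (fixStep [T4, T2, T4, T2]) 11 0 = true := by decide +kernel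
theorem relChk9_c1 : allPow 2058 (fixStep [T4, T2, T4, T2]) 11 2048 = true := by decide +kernel
theorem relChk9 : allBelow 12 2058 (fixStep [T4, T2, T4, T2]) = true :=
  allBelow_of_upto (hi := 4096)
    (Upto.trans (mid := 2048) ((Upto.of_pow relChk9_c0 (Nat.le_refl _)) : Upto _ _ 0 (0 + 2 ^ 11))
    ((Upto.of_pow relChk9_c1 (Nat.le_refl _)) : Upto _ _ 2048 (2048 + 2 ^ 11)))
    (by decide) (by decide)

theorem rel9 : ∀ u, u < 2058 → trace (wordTabs tabs [(.b, true), (.d, true), (.b, true), (.d, true)]) u = u :=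
  trace_of_fixStep (ts := [T4, T2, T4, T2]) relChk9

theorem relChk10_c0 : allPow 2058 (fixStep [T5, T2, T5, T2]) 11 0 = true := by decide +kernel
theorem relChk10_c1 : allPow 2058 (fixStep [T5, T2, T5, T2]) 11 2048 = true := by decide +kernel
theorem relChk10 : allBelow 12 2058 (fixStep [T5, T2, T5, T2]) = true :=
  allBelow_of_upto (hi := 4096)
    (Upto.trans (mid := 2048) ((Upto.of_pow relChk10_c0 (Nat.le_refl _)) : Upto _ _ 0 (0 + 2 ^ 11))
    ((Upto.of_pow relChk10_c1 (Nat.le_refl _)) : Upto _ _ 2048 (2048 + 2 ^ 11)))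
    (by decide) (by decide)

theorem rel10 : ∀ u, u < 2058 → trace (wordTabs tabs [(.b, true), (.e, true), (.b, true), (.e, true)]) u = u :=
  trace_of_fixStep (ts := [T5, T2, T5, T2]) relChk10

theorem relChk11_c0 : allPow 2058 (fixStep [T6, T2, T6, T2]) 11 0 = true := by decide +kernel
theorem relChk11_c1 : allPow 2058 (fixStep [T6, T2, T6, T2]) 11 2048 = true := by decide +kernel
theorem relChk11 : allBelow 12 2058 (fixStep [T6, T2, T6, T2]) = true :=
  allBelow_of_upto (hi := 4096)
    (Upto.trans (mid := 2048) ((Upto.of_pow relChk11_c0 (Nat.le_refl _)) : Upto _ _ 0 (0 + 2 ^ 11))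
    ((Upto.of_pow relChk11_c1 (Nat.le_refl _)) : Upto _ _ 2048 (2048 + 2 ^ 11)))
    (by decide) (by decide)

theorem rel11 : ∀ u, u < 2058 → trace (wordTabs tabs [(.b, true), (.f, true), (.b, true), (.f, true)]) u = u :=
  trace_of_fixStep (ts := [T6, T2, T6, T2]) relChk11

theorem relChk12_c0 : allPow 2058 (fixStep [T7, T2, T7, T2]) 11 0 = true := by decide +kernel
theorem relChk12_c1 : allPow 2058 (fixStep [T7, T2, T7, T2]) 11 2048 = true := by decide +kernel
theorem relChk12 : allBelow 12 2058 (fixStep [T7, T2, T7, T2]) = true :=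
  allBelow_of_upto (hi := 4096)
    (Upto.trans (mid := 2048) ((Upto.of_pow relChk12_c0 (Nat.le_refl _)) : Upto _ _ 0 (0 + 2 ^ 11))
    ((Upto.of_pow relChk12_c1 (Nat.le_refl _)) : Upto _ _ 2048 (2048 + 2 ^ 11)))
    (by decide) (by decide)

theorem rel12 : ∀ u, u < 2058 → trace (wordTabs tabs [(.b, true), (.g, true), (.b, true), (.g, true)]) u = u :=
  trace_of_fixStep (ts := [T7, T2, T7, T2]) relChk12

theorem relChk13 : allBelow 12 2058 (fixStep [T3, T3]) = true := by decide +kernel

theorem rel13 : ∀ u, u < 2058 → trace (wordTabs tabs [(.c, true), (.c, true)]) u = u :=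
  trace_of_fixStep (ts := [T3, T3]) relChk13

theorem relChk14_c0 : allPow 2058 (fixStep [T4, T3, T4, T3, T4, T3, T4, T3, T4, T3, T4, T3, T4, T3, T4, T3, T4, T3, T4, T3]) 9 0 = true := by decide +kernel
theorem relChk14_c1 : allPow 2058 (fixStep [T4, T3, T4, T3, T4, T3, T4, T3, T4, T3, T4, T3, T4, T3, T4, T3, T4, T3, T4, T3]) 9 512 = true := by decide +kernel
theorem relChk14_c2 : allPow 2058 (fixStep [T4, T3, T4, T3, T4, T3, T4, T3, T4, T3, T4, T3, T4, T3, T4, T3, T4, T3, T4, T3]) 9 1024 = true := by decide +kernel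
theorem relChk14_c3 : allPow 2058 (fixStep [T4, T3, T4, T3, T4, T3, T4, T3, T4, T3, T4, T3, T4, T3, T4, T3, T4, T3, T4, T3]) 9 1536 = true := by decide +kernel
theorem relChk14_c4 : allPow 2058 (fixStep [T4, T3, T4, T3, T4, T3, T4, T3, T4, T3, T4, T3, T4, T3, T4, T3, T4, T3, T4, T3]) 9 2048 = true := by decide +kernel
theorem relChk14 : allBelow 12 2058 (fixStep [T4, T3, T4, T3, T4, T3, T4, T3, T4, T3, T4, T3, T4, T3, T4, T3, T4, T3, T4, T3]) = true :=
  allBelow_of_upto (hi := 2560)
    (Upto.trans (mid := 1024) (Upto.trans (mid := 512) ((Upto.of_pow relChk14_c0 (Nat.le_refl _)) : Upto _ _ 0 (0 + 2 ^ 9))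
    ((Upto.of_pow relChk14_c1 (Nat.le_refl _)) : Upto _ _ 512 (512 + 2 ^ 9)))
    (Upto.trans (mid := 1536) ((Upto.of_pow relChk14_c2 (Nat.le_refl _)) : Upto _ _ 1024 (1024 + 2 ^ 9))
    (Upto.trans (mid := 2048) ((Upto.of_pow relChk14_c3 (Nat.le_refl _)) : Upto _ _ 1536 (1536 + 2 ^ 9))
    ((Upto.of_pow relChk14_c4 (Nat.le_refl _)) : Upto _ _ 2048 (2048 + 2 ^ 9)))))
    (by decide) (by decide)

theorem rel14 : ∀ u, u < 2058 → trace (wordTabs tabs [(.c, true), (.d, true), (.c, true), (.d, true), (.c, true), (.d, true), (.c, true), (.d, true), (.c, true), (.d, true), (.c, true), (.d, true), (.c, true), (.d, true), (.c, true), (.d, true), (.c, true), (.d, true), (.c, true), (.d, true)]) u = u :=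
  trace_of_fixStep (ts := [T4, T3, T4, T3, T4, T3, T4, T3, T4, T3, T4, T3, T4, T3, T4, T3, T4, T3, T4, T3]) relChk14

theorem relChk15_c0 : allPow 2058 (fixStep [T5, T3, T5, T3]) 11 0 = true := by decide +kernel
theorem relChk15_c1 : allPow 2058 (fixStep [T5, T3, T5, T3]) 11 2048 = true := by decide +kernel
theorem relChk15 : allBelow 12 2058 (fixStep [T5, T3, T5, T3]) = true :=
  allBelow_of_upto (hi := 4096)
    (Upto.trans (mid := 2048) ((Upto.of_pow relChk15_c0 (Nat.le_refl _)) : Upto _ _ 0 (0 + 2 ^ 11))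
    ((Upto.of_pow relChk15_c1 (Nat.le_refl _)) : Upto _ _ 2048 (2048 + 2 ^ 11)))
    (by decide) (by decide)

theorem rel15 : ∀ u, u < 2058 → trace (wordTabs tabs [(.c, true), (.e, true), (.c, true), (.e, true)]) u = u :=
  trace_of_fixStep (ts := [T5, T3, T5, T3]) relChk15

theorem relChk16_c0 : allPow 2058 (fixStep [T6, T3, T6, T3]) 11 0 = true := by decide +kernel
theorem relChk16_c1 : allPow 2058 (fixStep [T6, T3, T6, T3]) 11 2048 = true := by decide +kernel
theorem relChk16 : allBelow 12 2058 (fixStep [T6, T3, T6, T3]) = true :=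
  allBelow_of_upto (hi := 4096)
    (Upto.trans (mid := 2048) ((Upto.of_pow relChk16_c0 (Nat.le_refl _)) : Upto _ _ 0 (0 + 2 ^ 11))
    ((Upto.of_pow relChk16_c1 (Nat.le_refl _)) : Upto _ _ 2048 (2048 + 2 ^ 11)))
    (by decide) (by decide)

theorem rel16 : ∀ u, u < 2058 → trace (wordTabs tabs [(.c, true), (.f, true), (.c, true), (.f, true)]) u = u :=
  trace_of_fixStep (ts := [T6, T3, T6, T3]) relChk16

theorem relChk17_c0 : allPow 2058 (fixStep [T7, T3, T7, T3]) 11 0 = true := by decide +kernel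
theorem relChk17_c1 : allPow 2058 (fixStep [T7, T3, T7, T3]) 11 2048 = true := by decide +kernel
theorem relChk17 : allBelow 12 2058 (fixStep [T7, T3, T7, T3]) = true :=
  allBelow_of_upto (hi := 4096)
    (Upto.trans (mid := 2048) ((Upto.of_pow relChk17_c0 (Nat.le_refl _)) : Upto _ _ 0 (0 + 2 ^ 11))
    ((Upto.of_pow relChk17_c1 (Nat.le_refl _)) : Upto _ _ 2048 (2048 + 2 ^ 11)))
    (by decide) (by decide)

theorem rel17 : ∀ u, u < 2058 → trace (wordTabs tabs [(.c, true), (.g, true), (.c, true), (.g, true)]) u = u :=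
  trace_of_fixStep (ts := [T7, T3, T7, T3]) relChk17

theorem relChk18 : allBelow 12 2058 (fixStep [T4, T4]) = true := by decide +kernel

theorem rel18 : ∀ u, u < 2058 → trace (wordTabs tabs [(.d, true), (.d, true)]) u = u :=
  trace_of_fixStep (ts := [T4, T4]) relChk18

theorem relChk19_c0 : allPow 2058 (fixStep [T5, T4, T5, T4, T5, T4]) 11 0 = true := by decide +kernel
theorem relChk19_c1 : allPow 2058 (fixStep [T5, T4, T5, T4, T5, T4]) 11 2048 = true := by decide +kernel
theorem relChk19 : allBelow 12 2058 (fixStep [T5, T4, T5, T4, T5, T4]) = true :=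
  allBelow_of_upto (hi := 4096)
    (Upto.trans (mid := 2048) ((Upto.of_pow relChk19_c0 (Nat.le_refl _)) : Upto _ _ 0 (0 + 2 ^ 11))
    ((Upto.of_pow relChk19_c1 (Nat.le_refl _)) : Upto _ _ 2048 (2048 + 2 ^ 11)))
    (by decide) (by decide)

theorem rel19 : ∀ u, u < 2058 → trace (wordTabs tabs [(.d, true), (.e, true), (.d, true), (.e, true), (.d, true), (.e, true)]) u = u :=
  trace_of_fixStep (ts := [T5, T4, T5, T4, T5, T4]) relChk19

theorem relChk20_c0 : allPow 2058 (fixStep [T6, T4, T6, T4, T6, T4]) 11 0 = true := by decide +kernel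
theorem relChk20_c1 : allPow 2058 (fixStep [T6, T4, T6, T4, T6, T4]) 11 2048 = true := by decide +kernel
theorem relChk20 : allBelow 12 2058 (fixStep [T6, T4, T6, T4, T6, T4]) = true :=
  allBelow_of_upto (hi := 4096)
    (Upto.trans (mid := 2048) ((Upto.of_pow relChk20_c0 (Nat.le_refl _)) : Upto _ _ 0 (0 + 2 ^ 11))
    ((Upto.of_pow relChk20_c1 (Nat.le_refl _)) : Upto _ _ 2048 (2048 + 2 ^ 11)))
    (by decide) (by decide)

theorem rel20 : ∀ u, u < 2058 → trace (wordTabs tabs [(.d, true), (.f, true), (.d, true), (.f, true), (.d, true), (.f, true)]) u = u :=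
  trace_of_fixStep (ts := [T6, T4, T6, T4, T6, T4]) relChk20

theorem relChk21_c0 : allPow 2058 (fixStep [T7, T4, T7, T4, T7, T4]) 11 0 = true := by decide +kernel
theorem relChk21_c1 : allPow 2058 (fixStep [T7, T4, T7, T4, T7, T4]) 11 2048 = true := by decide +kernel
theorem relChk21 : allBelow 12 2058 (fixStep [T7, T4, T7, T4, T7, T4]) = true :=
  allBelow_of_upto (hi := 4096)
    (Upto.trans (mid := 2048) ((Upto.of_pow relChk21_c0 (Nat.le_refl _)) : Upto _ _ 0 (0 + 2 ^ 11))
    ((Upto.of_pow relChk21_c1 (Nat.le_refl _)) : Upto _ _ 2048 (2048 + 2 ^ 11)))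
    (by decide) (by decide)

theorem rel21 : ∀ u, u < 2058 → trace (wordTabs tabs [(.d, true), (.g, true), (.d, true), (.g, true), (.d, true), (.g, true)]) u = u :=
  trace_of_fixStep (ts := [T7, T4, T7, T4, T7, T4]) relChk21

theorem relChk22 : allBelow 12 2058 (fixStep [T5, T5]) = true := by decide +kernel

theorem rel22 : ∀ u, u < 2058 → trace (wordTabs tabs [(.e, true), (.e, true)]) u = u :=
  trace_of_fixStep (ts := [T5, T5]) relChk22

theorem relChk23_c0 : allPow 2058 (fixStep [T6, T5, T6, T5]) 11 0 = true := by decide +kernel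
theorem relChk23_c1 : allPow 2058 (fixStep [T6, T5, T6, T5]) 11 2048 = true := by decide +kernel
theorem relChk23 : allBelow 12 2058 (fixStep [T6, T5, T6, T5]) = true :=
  allBelow_of_upto (hi := 4096)
    (Upto.trans (mid := 2048) ((Upto.of_pow relChk23_c0 (Nat.le_refl _)) : Upto _ _ 0 (0 + 2 ^ 11))
    ((Upto.of_pow relChk23_c1 (Nat.le_refl _)) : Upto _ _ 2048 (2048 + 2 ^ 11)))
    (by decide) (by decide)

theorem rel23 : ∀ u, u < 2058 → trace (wordTabs tabs [(.e, true), (.f, true), (.e, true), (.f, true)]) u = u :=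
  trace_of_fixStep (ts := [T6, T5, T6, T5]) relChk23

theorem relChk24_c0 : allPow 2058 (fixStep [T7, T5, T7, T5]) 11 0 = true := by decide +kernel
theorem relChk24_c1 : allPow 2058 (fixStep [T7, T5, T7, T5]) 11 2048 = true := by decide +kernel
theorem relChk24 : allBelow 12 2058 (fixStep [T7, T5, T7, T5]) = true :=
  allBelow_of_upto (hi := 4096)
    (Upto.trans (mid := 2048) ((Upto.of_pow relChk24_c0 (Nat.le_refl _)) : Upto _ _ 0 (0 + 2 ^ 11))
    ((Upto.of_pow relChk24_c1 (Nat.le_refl _)) : Upto _ _ 2048 (2048 + 2 ^ 11)))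
    (by decide) (by decide)

theorem rel24 : ∀ u, u < 2058 → trace (wordTabs tabs [(.e, true), (.g, true), (.e, true), (.g, true)]) u = u :=
  trace_of_fixStep (ts := [T7, T5, T7, T5]) relChk24

theorem relChk25 : allBelow 12 2058 (fixStep [T6, T6]) = true := by decide +kernel

theorem rel25 : ∀ u, u < 2058 → trace (wordTabs tabs [(.f, true), (.f, true)]) u = u :=
  trace_of_fixStep (ts := [T6, T6]) relChk25

theorem relChk26_c0 : allPow 2058 (fixStep [T7, T6, T7, T6, T7, T6, T7, T6]) 10 0 = true := by decide +kernel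
theorem relChk26_c1 : allPow 2058 (fixStep [T7, T6, T7, T6, T7, T6, T7, T6]) 10 1024 = true := by decide +kernel
theorem relChk26_c2 : allPow 2058 (fixStep [T7, T6, T7, T6, T7, T6, T7, T6]) 10 2048 = true := by decide +kernel
theorem relChk26 : allBelow 12 2058 (fixStep [T7, T6, T7, T6, T7, T6, T7, T6]) = true :=
  allBelow_of_upto (hi := 3072)
    (Upto.trans (mid := 1024) ((Upto.of_pow relChk26_c0 (Nat.le_refl _)) : Upto _ _ 0 (0 + 2 ^ 10))
    (Upto.trans (mid := 2048) ((Upto.of_pow relChk26_c1 (Nat.le_refl _)) : Upto _ _ 1024 (1024 + 2 ^ 10))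
    ((Upto.of_pow relChk26_c2 (Nat.le_refl _)) : Upto _ _ 2048 (2048 + 2 ^ 10))))
    (by decide) (by decide)

theorem rel26 : ∀ u, u < 2058 → trace (wordTabs tabs [(.f, true), (.g, true), (.f, true), (.g, true), (.f, true), (.g, true), (.f, true), (.g, true)]) u = u :=
  trace_of_fixStep (ts := [T7, T6, T7, T6, T7, T6, T7, T6]) relChk26

theorem relChk27 : allBelow 12 2058 (fixStep [T7, T7]) = true := by decide +kernel

theorem rel27 : ∀ u, u < 2058 → trace (wordTabs tabs [(.g, true), (.g, true)]) u = u :=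
  trace_of_fixStep (ts := [T7, T7]) relChk27

theorem relChk28_c0 : allPow 2058 (fixStep [T6, T7, T6, T7, T5]) 11 0 = true := by decide +kernel
theorem relChk28_c1 : allPow 2058 (fixStep [T6, T7, T6, T7, T5]) 11 2048 = true := by decide +kernel
theorem relChk28 : allBelow 12 2058 (fixStep [T6, T7, T6, T7, T5]) = true :=
  allBelow_of_upto (hi := 4096)
    (Upto.trans (mid := 2048) ((Upto.of_pow relChk28_c0 (Nat.le_refl _)) : Upto _ _ 0 (0 + 2 ^ 11))
    ((Upto.of_pow relChk28_c1 (Nat.le_refl _)) : Upto _ _ 2048 (2048 + 2 ^ 11)))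
    (by decide) (by decide)

theorem rel28 : ∀ u, u < 2058 → trace (wordTabs tabs [(.e, true), (.g, false), (.f, false), (.g, false), (.f, false)]) u = u :=
  trace_of_fixStep (ts := [T6, T7, T6, T7, T5]) relChk28

theorem relChk29_c0 : allPow 2058 (fixStep [T1, T2, T3, T1, T2, T3, T1, T2, T3, T5]) 10 0 = true := by decide +kernel
theorem relChk29_c1 : allPow 2058 (fixStep [T1, T2, T3, T1, T2, T3, T1, T2, T3, T5]) 10 1024 = true := by decide +kernel
theorem relChk29_c2 : allPow 2058 (fixStep [T1, T2, T3, T1, T2, T3, T1, T2, T3, T5]) 10 2048 = true := by decide +kernel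
theorem relChk29 : allBelow 12 2058 (fixStep [T1, T2, T3, T1, T2, T3, T1, T2, T3, T5]) = true :=
  allBelow_of_upto (hi := 3072)
    (Upto.trans (mid := 1024) ((Upto.of_pow relChk29_c0 (Nat.le_refl _)) : Upto _ _ 0 (0 + 2 ^ 10))
    (Upto.trans (mid := 2048) ((Upto.of_pow relChk29_c1 (Nat.le_refl _)) : Upto _ _ 1024 (1024 + 2 ^ 10))
    ((Upto.of_pow relChk29_c2 (Nat.le_refl _)) : Upto _ _ 2048 (2048 + 2 ^ 10))))
    (by decide) (by decide)

theorem rel29 : ∀ u, u < 2058 → trace (wordTabs tabs [(.e, true), (.c, false), (.b, false), (.a, false), (.c, false), (.b, false), (.a, false), (.c, false), (.b, false), (.a, false)]) u = u :=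
  trace_of_fixStep (ts := [T1, T2, T3, T1, T2, T3, T1, T2, T3, T5]) relChk29

theorem relChk30_c0 : allPow 2058 (fixStep [T3, T4, T3, T4, T3, T4, T3, T4, T3, T4, T1]) 10 0 = true := by decide +kernel
theorem relChk30_c1 : allPow 2058 (fixStep [T3, T4, T3, T4, T3, T4, T3, T4, T3, T4, T1]) 10 1024 = true := by decide +kernel
theorem relChk30_c2 : allPow 2058 (fixStep [T3, T4, T3, T4, T3, T4, T3, T4, T3, T4, T1]) 10 2048 = true := by decide +kernel
theorem relChk30 : allBelow 12 2058 (fixStep [T3, T4, T3, T4, T3, T4, T3, T4, T3, T4, T1]) = true :=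
  allBelow_of_upto (hi := 3072)
    (Upto.trans (mid := 1024) ((Upto.of_pow relChk30_c0 (Nat.le_refl _)) : Upto _ _ 0 (0 + 2 ^ 10))
    (Upto.trans (mid := 2048) ((Upto.of_pow relChk30_c1 (Nat.le_refl _)) : Upto _ _ 1024 (1024 + 2 ^ 10))
    ((Upto.of_pow relChk30_c2 (Nat.le_refl _)) : Upto _ _ 2048 (2048 + 2 ^ 10))))
    (by decide) (by decide)

theorem rel30 : ∀ u, u < 2058 → trace (wordTabs tabs [(.a, true), (.d, false), (.c, false), (.d, false), (.c, false), (.d, false), (.c, false), (.d, false), (.c, false), (.d, false), (.c, false)]) u = u :=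
  trace_of_fixStep (ts := [T3, T4, T3, T4, T3, T4, T3, T4, T3, T4, T1]) relChk30

def B31Lit : Nat := 0x7fa7fb7db77e6e477879b6747de7777fe8034697f577577a7f245a7f67fc7f77ee79c80278e8015e37a477d6e578578a7847895886fa7a57ba75b7717975d464767d6557a36e98088057ec80979278d7a96ee75a5935c557b5c27337406d279437036335776f57a7aa7e37e47887917c340556c3746b276c7a25967e15fe37361b6217827d27d473b7513a65e47bb3516316ed6e673e4666845e56f279370039d7987455e97ff73974e38170370b70576e7ed8067af38b4685ea6e76885ef68b68368767a66e46b47b79071e7a760d47e7d67a173074d7d769147d47c6157da3347315ee7047877177475947c23fa6df6e06cc6cd55479f47379659270271d7ad47250e4e27bf58530838a7d13136ca7447953cd6416ff71a6dc77b31c6dd7373693587ca7493ed3f632472944b76b7437733053507c073d56670f3f53e872660b7be7367a677c7287cf3042d97504863f37614853ee30140258b59f40c30f2844a77697b876d7676b327c63e7ac4676346b53a54fd52b71039b4b839c6f93774ab4264ae4b95876267b772f41f41956725d4b735655575e76335a3e355b62534672562a7f879d79a4a17cb7c77f17f368a64846246344861145564f5e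776076867975562839742c42d6ad4ff5057d37084287a84ad49c23458074f76a6cf74b71270c53e7163ba4424406bb4374393b97dc6e222b7865b022053d3a451078046072d62c54f6004032b323920468c75772e3951fd6a25216681fb6a635f2014222c54016a34b469a6ac1fc4ce51367f7dd6d87703c02e46b44be2782966528077b63c16037ae8047f464d7154bd21d2335fd7f07c97c869223d57e7207eb7e97f95f68007bd75963b6c24954a55d36604416202ba5b57c54966e35f06467ef7e06f164b5d27e52c06385a55363f43c33e65ba7ea66f6bf43e5d67e845864e5fa6c57df6e864c3cf65154d54e6863823f27c652c3ec64453871c27a23f4905452701ad58a7b06334e46325f97ab7227b95f57994047e249855378b1a034859831619f77219d34c4a23c559765047046457944a4597d929e5b346f71365662f7ce4104344ed7795846a87c173c4916b12e84d467371b7fd6c32825d15af67e28125278f6c96c84563403314504476c46eb6ea5eb5733ff6be6c666a5f32882875fb32d48e5c831432874a51f65f65d6b85d73bb3b82215c43a865362b4491745c36786274651756135115154716f85374465a03b475d34b5a91c93265b944321f1643e552560166922435c3a13fe3f75c95ce30e2f75d55ab7245445913fb37c5cd6af6ae62438447669e6a41ac6395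9c5fc6aa5a86c75d83c638f1b01584973f96187647533597b157c4845865ca56f4aa5aa6025576a950844e1b91b742117f40f56557527b5605635712e24d77427356f475472b6ef6e16cb6ce75c2cf32f34f2d03304d837631154c61f60571f6fe6db5953eb15a45f6b064063d24817e5355db2032554b136a38c4b33613e44203d95a25a658f1b21323ab1c11715521994e96455e037d6a06a160942364373838328a58e1415a149f51468d28f3d230d27f3fd2fc4d94183cc51775851b72c58112c1f06d341e74112733539950a50f70139466550b5703443531266d429b3d64e030a57f18d4cc2123d84c64fb4cd6803d041d2b73752731a65ac2982f65e612137a20e29a4005b173412033a3a24de4e36d73455564df5742d22da67167c67b6894993b311c4c94d12ae1231246d154b5e126e53a6373af6d649a78c3805162bd40d3ef2866976964e150d55d4ec5205485465be54345d51d52a23749d70a7114a04b57b27b54fa3be2ac4ac6d563c45b60f61a2354b67bc63f2513e02b82be5de4eb3f84e54e84a65da66366b43b43a43d1143f02c32c25f45f85f761243c6495cf68567267511346d16047a51a5b44777e77e660a60e6166664316596764815df5e23d365b5cb39f7817d544f2941bd3dc59b2745b265e46a66144443f48d2236542bc3ce4896081944453b16b67d0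5c67d848066745744d65a5e86ba64a6626bd5ed5ec6b96bc6c165c6c01041954614794364335005314326da6d97a06307143933525025186d038529336d24250c5d03874f37b47b342b5193643863653436de78379e19132a33f1ff3f17211003fc24f4a32b67cd5dc3333425424ea4932901d72162567cc62e4356585685d927656b4d340b48835d56a6f04a965716516b2e940821349e37b55a6ec2b17230f93df1d153f0f722d45e3913db27d5243b76822073d45222721985a759a2aa6071da0f319216355f14269423a4c26063895bb0f124948c47f6174380f63c822817d1a35323b026224521429f5785394e72b477f0e333d5f270e3a770661c30b7760e13385f16b739e70d5997660db34a7745125762531022581bf3901574124253721cf41c41612f4b07076424112db2d62e11a14b21d92184cf54a70932b18e4c348f11f19c4d63aa18f39216736e1af2f03711861a51014174d569969d0d41f915e6816222e525a14d5b83e24fe7c42c725c25e35557d61956941441b4a460440e41a0c834e7184c42b05a41ca6232bb34775f67775656239676567074c5bc50959e1cc61d6fd50618330732e6f64da1825dd3297480b02ed5585492f92f22b559d3322f13412e731572772a32331a3222f86a76f70b833c7624a82d30e26fc0cd3374940a02ec7196f330630351c3024c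14af2fd09a2eb55e33b75249b2de0972ef5613367465ff37e73f73a69037f7322f33192fb0cc2fa2f43a92d455c2ea09809b09e2fe2e04c03092d72df3102ee0a23000b13213200892ca0ea2052cd07e2c60c90e03983a331731839a5b607a1e72a44fc3495bf0791e13dd40a32556d31e0d30fa34d1ea4bb1661b30731f22ab1690726952a71884273ae3ad52726a50107028d61036f29d3ca4f624c22c68f2064ef2954ee4f44d21893bd4f02af29c4d03b211b26b4dc38e1c01c236c59024d4304dd14946c07c1ee1ba60c24b1681315332414292633c93bc1d41bb2a147826c1404544511a935e44c4bc1442002a36fb14e1a25c125f52816c5265473b54f95836f515415b0661f66ab16224e22f14c14f2152190651111bc2252444f81304131a70640f269323b4cb3684245642a60631e41de26d2321d206f48a28c0620ef22e0f006948222226648348b46e07b1eb1614751e04c55340ca1295030ee45366c0fb13a27e63610d1353cb3121fa69c6a569f69836269b0581f51b668e05e20a2cb20820952f3d721120f53029920d20b1ed4ba1be5235772174f552906b21e66d2573603672ad2796642a82023881ef5501e64c85410cb12b61e1d80680511b84f21562302831d00b71d60b916a1c60f51c863a3de1c76291c562d1ce0561dc5401ae21c14b3da1f125904b13d4075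511b558c63528542a58904a4153c71ab3e91222670bd28e19642f5ae1cb15f5ad23604711837826504610b49261419726452e0440d71454521901e50412894bf18a2312801870b40b30761b114a13b16f05517906e17b5c02a517a5cc5c73b62401781fe5bd1e945c1db23c5b721a16d1850773c421b53c15127712e1b426f03e1383e753b15d58d5a304e1592473e135427515c2505045825593ac57256e3a003d13c4f12431473ea12d3663c223819e2bf4ca19a18c1252b94c711d35b0bc13628b11552d2692a03d551e1434091a85072461504f72972924e64db3bf03a11937926117020c21016e03910748747411626019311233905a13325b2a917c1a423e24a18142e0370da1aa4061031df1370ff05b1531c40571f83d104d0f817313f22a2292542a20382ce0a80c70ad2c90e902f08d0ac2c41482c10aa0b20c007d0df10e38d11e19b36b0740d618b0810c30d21d30d00e80a113405305f1520c408701f0c133e02702e07808607f0ec04903c30c08c31b0a431d2f50d932c32702b2d131f0800190960e50ae2c808f0302e30142e62d50c20bb2d82ff01109d09209f2dd0a50160b60a70e70eb0a60942dc0250910200af0e40ba01e00c0be08a2cc0840880de02a2b208205202c0ce0dd06c0611460fd0241e306000902810a1770751f42910400711e21170d827126804510617213e2272261e81051ec11a00705d1f71f305c0fe0351dd0541091d508e0cf00600a1cd1c305018012810804c06a11002913900503618417604315512a10c03f0b510f0330fc04f0f40ed0340a30180950e603203101c0dc0830080d50d100300e0c500b00d0010170c60220210bf0ab01d01b0040a909900f09309c01501300200009008b08502604206d06705904803b02d02301001a012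
noncomputable def B31 (u : Nat) : Nat := Nat.land (Nat.shiftRight B31Lit (Nat.mul 12 u)) 4095
theorem relChk31_c0 : allPow 2058 (relStep [T7, T6, T4, T3] B31 4) 10 0 = true := by decide +kernel
theorem relChk31_c1 : allPow 2058 (relStep [T7, T6, T4, T3] B31 4) 10 1024 = true := by decide +kernel
theorem relChk31_c2 : allPow 2058 (relStep [T7, T6, T4, T3] B31 4) 10 2048 = true := by decide +kernel
theorem relChk31 : allBelow 12 2058 (relStep [T7, T6, T4, T3] B31 4) = true :=
  allBelow_of_upto (hi := 3072)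
    (Upto.trans (mid := 1024) ((Upto.of_pow relChk31_c0 (Nat.le_refl _)) : Upto _ _ 0 (0 + 2 ^ 10))
    (Upto.trans (mid := 2048) ((Upto.of_pow relChk31_c1 (Nat.le_refl _)) : Upto _ _ 1024 (1024 + 2 ^ 10))
    ((Upto.of_pow relChk31_c2 (Nat.le_refl _)) : Upto _ _ 2048 (2048 + 2 ^ 10))))
    (by decide) (by decide)

theorem rel31 : ∀ u, u < 2058 → trace (wordTabs tabs [(.c, true), (.d, true), (.f, true), (.g, true), (.c, true), (.d, true), (.f, true), (.g, true), (.c, true), (.d, true), (.f, true), (.g, true), (.c, true), (.d, true), (.f, true), (.g, true)]) u = u := by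
  intro u hu
  exact trace_replicate_of_relStep (base := [T7, T6, T4, T3]) (m := 4)
    (fun v hv => trace_lt tablesOK [(.c, true), (.d, true), (.f, true), (.g, true)] v hv) relChk31 u hu

end CfsgLib.SporRecognition.Cert.He2058
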